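import Groth.Agent.AmpleX.SemiAmple
import Groth.Agent.AmpleX.CounitEpi
import Groth.Agent.AmpleDesc5.Stage
import Groth.Agent.InvX.Tensor
import Groth.Agent.MorLib.BaseChangeLim
import Groth.Agent.ConsPropLib.Model

/-!
# An epimorphic counit descends to a stage
-/

set_option autoImplicit false
set_option maxHeartbeats 1000000
set_option linter.style.haveILetI false
set_option backward.isDefEq.respectTransparency.types false
set_option backward.isDefEq.respectTransparency false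

universe u

open CategoryTheory CategoryTheory.Limits AlgebraicGeometry TopologicalSpace

noncomputable section

namespace Groth.Agent.CounitStage22

open Groth.Agent Groth.Agent.AmpleX

variable {X Y : Scheme.{u}}

/-- Sections over preimages of opens generate. -/
def Gen (f : X ⟶ Y) (L : X.Modules) : Prop :=
  ∀ x : X, ∃ V : Y.Opens, f x ∈ V ∧ ∃ a : Γ(L, f ⁻¹ᵁ V), x ∈ locus a

theorem gen_of_epi (f : X ⟶ Y) {L : X.Modules} (hL : PicF.IsInvertible L)
    (h : Epi ((Scheme.Modules.pullbackPushforwardAdjunction f).counit.app L)) : Gen f L := fun x => by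
  obtain ⟨V, -, hxV, a, ha⟩ := exists_locus_of_epi_counit f hL h x (V := ⊤) trivial
  exact ⟨V, hxV, a, ha⟩

theorem epi_of_gen (f : X ⟶ Y) {L : X.Modules} (h : Gen f L) :
    Epi ((Scheme.Modules.pullbackPushforwardAdjunction f).counit.app L) := by
  let adj := Scheme.Modules.pullbackPushforwardAdjunction f
  refine Preadditive.epi_of_cancel_zero _ fun {Q} (π : L ⟶ Q) hπ => ?_
  have hπ' : (Scheme.Modules.pushforward f).map π = 0 := by
    have h0 := congrArg (adj.homEquiv _ _) hπ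
    rw [Adjunction.homEquiv_unit, Adjunction.homEquiv_unit, Functor.map_comp,
      Adjunction.right_triangle_components_assoc] at h0
    rw [h0]
    have h1 : (Scheme.Modules.pushforward f).map
        (0 : (Scheme.Modules.pullback f).obj ((Scheme.Modules.pushforward f).obj L) ⟶ Q) = 0 := by
      refine Scheme.Modules.hom_ext _ _ fun V'' => ?_
      rfl
    rw [h1]
    exact Limits.comp_zero
  refine Scheme.Modules.hom_ext _ _ fun U => ?_
  ext s
  show π.app U s = 0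
  refine AModX.eq_of_locally _ _ fun x hxU => ?_
  obtain ⟨V, -, a, hxa⟩ := h x
  have ha : π.app (f ⁻¹ᵁ V) a = 0 := by
    show ((Scheme.Modules.pushforward f).map π).app V a = 0
    rw [hπ']; rfl
  let W := locus a ⊓ U
  have hf := isFrame_res_of_le a (inf_le_left : W ≤ locus a)
  obtain ⟨c, hc⟩ := hf.exists_coord le_rfl (AModX.res L (inf_le_right : W ≤ U) s)
  rw [AModX.res_self] at hc
  refine ⟨W, inf_le_right, ⟨hxa, hxU⟩, ?_⟩
  rw [map_zero]
  refine (AModX.app_res π (inf_le_right : W ≤ U) s).symm.trans ?_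
  rw [hc, Scheme.Modules.Hom.app_smul, AModX.app_res, ha, map_zero, smul_zero]

theorem gen_of_iso (f : X ⟶ Y) {L L' : X.Modules} (e : L ≅ L') (h : Gen f L) : Gen f L' := fun x => by
  obtain ⟨V, hxV, a, ha⟩ := h x
  exact ⟨V, hxV, e.hom.app _ a, by rw [locus_iso]; exact ha⟩

/-- The local condition at one point, along a commutative square. -/
theorem gen_point {X' Y' : Scheme.{u}} {f : X ⟶ Y} {f' : X' ⟶ Y'} {pX : X' ⟶ X} {pY : Y' ⟶ Y}
    (w : pX ≫ f = f' ≫ pY) {L : X.Modules} (hL : PicF.IsInvertible L) {V : Y.Opens} (a : Γ(L, f ⁻¹ᵁ V))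
    {x' : X'} (hx : pX x' ∈ locus a) :
    ∃ V' : Y'.Opens, f' x' ∈ V' ∧
      ∃ b : Γ((Scheme.Modules.pullback pX).obj L, f' ⁻¹ᵁ V'), x' ∈ locus b := by
  have he : f' ⁻¹ᵁ (pY ⁻¹ᵁ V) = pX ⁻¹ᵁ (f ⁻¹ᵁ V) := by
    rw [← Scheme.Hom.comp_preimage, ← Scheme.Hom.comp_preimage, w]
  have hx' : x' ∈ f' ⁻¹ᵁ (pY ⁻¹ᵁ V) := he ▸ locus_le a hx
  refine ⟨pY ⁻¹ᵁ V, hx', AModX.res _ he.le (InvX.pullElt pX a), ?_⟩
  rw [locus_res, locus_pullElt hL]
  exact ⟨hx, hx'⟩

theorem gen_of_sq {X' Y' : Scheme.{u}} {f : X ⟶ Y} {f' : X' ⟶ Y'} {pX : X' ⟶ X} {pY : Y' ⟶ Y}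
    (w : pX ≫ f = f' ≫ pY) {L : X.Modules} (hL : PicF.IsInvertible L) (h : Gen f L) :
    Gen f' ((Scheme.Modules.pullback pX).obj L) := fun x' => by
  obtain ⟨V, -, a, ha⟩ := h (pX x')
  exact gen_point w hL a ha

/-- From a section over an open to a map on the open subscheme, keeping the locus. -/
theorem exists_hom_of_sect {L : X.Modules} (W : X.Opens) (a : Γ(L, W)) {M : W.toScheme.Modules}
    (e : M ≅ L.restrict W.ι) :
    ∃ s : Coh.structureModule W.toScheme ⟶ M, W.ι ''ᵁ CohB1.genLocus M s = locus a := by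
  let a' : Γ(L, W.ι ''ᵁ ⊤) := AModX.res L W.ι_image_top.le a
  refine ⟨InvX.ofSect (e.inv.app ⊤ a'), ?_⟩
  rw [genLocus_eq_locus, InvX.one_ofSect, show e.inv = e.symm.hom from rfl, locus_iso, image_locus, locus_res]
  exact inf_eq_left.2 ((locus_le a).trans W.ι_image_top.ge)

/-- From a map on an open subscheme to a section over the open, keeping the locus. -/
theorem exists_sect_of_hom {L : X.Modules} (W : X.Opens) {M : W.toScheme.Modules} (e : M ≅ L.restrict W.ι)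
    (s : Coh.structureModule W.toScheme ⟶ M) :
    ∃ a : Γ(L, W), locus a = W.ι ''ᵁ CohB1.genLocus M s := by
  let a' : Γ(L, W.ι ''ᵁ ⊤) := e.hom.app ⊤ (InvX.one s)
  refine ⟨AModX.res L W.ι_image_top.ge a', ?_⟩
  rw [locus_res, ← image_locus, locus_iso, ← genLocus_eq_locus]
  exact inf_eq_left.2 (W.ι_image_le _)

variable {J : Type u} [SmallCategory J] [IsCofiltered J] (D : J ⥤ Scheme.{u}) {c : Cone D} (hc : IsLimit c)
  [∀ {i j : J} (f : i ⟶ j), IsAffineHom (D.map f)]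
  [∀ i, CompactSpace (D.obj i)] [∀ i, QuasiSeparatedSpace (D.obj i)]

include hc in
/-- A section over a quasi-compact open of the limit comes from a later stage, with its locus. -/
theorem exists_sect_stage {b : J} (W : (D.obj b).Opens) (hW : IsCompact (W : Set (D.obj b)))
    {L : (D.obj b).Modules} (hL : PicF.IsInvertible L)
    (a : Γ((Scheme.Modules.pullback (c.π.app b)).obj L, c.π.app b ⁻¹ᵁ W)) :
    ∃ (k : J) (g : k ⟶ b) (t : Γ((Scheme.Modules.pullback (D.map g)).obj L, D.map g ⁻¹ᵁ W)),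
      c.π.app k ⁻¹ᵁ locus t = locus a := by
  let E := opensDiagram D b W
  let cE := opensCone D c b W
  haveI : ∀ j, CompactSpace (E.obj j) := fun j =>
    isCompact_iff_compactSpace.1 ((D.map j.hom).isCompact_preimage hW)
  haveI : ∀ j, QuasiSeparatedSpace (E.obj j) := fun j =>
    quasiSeparatedSpace_of_quasiSeparated (D.map j.hom ⁻¹ᵁ W).ι
  let b₀ : Over b := Over.mk (𝟙 b)
  let M : (E.obj b₀).Modules := (Scheme.Modules.pullback ((D.map b₀.hom ⁻¹ᵁ W).ι ≫ D.map b₀.hom)).obj L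
  have hw : ∀ j : Over b, cE.π.app j ≫ (D.map j.hom ⁻¹ᵁ W).ι ≫ D.map j.hom =
      (c.π.app b ⁻¹ᵁ W).ι ≫ c.π.app b := fun j => by
    show (c.π.app j.left).resLE _ _ _ ≫ _ = _
    rw [Scheme.Hom.resLE_comp_ι_assoc, c.w]
  have hwE : ∀ {j k : Over b} (r : j ⟶ k), E.map r ≫ (D.map k.hom ⁻¹ᵁ W).ι ≫ D.map k.hom =
      (D.map j.hom ⁻¹ᵁ W).ι ≫ D.map j.hom := fun {j k} r => by
    show (D.map r.left).resLE _ _ _ ≫ _ = _
    rw [Scheme.Hom.resLE_comp_ι_assoc, ← D.map_comp, Over.w r]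
  let Winf := c.π.app b ⁻¹ᵁ W
  let einf : (Scheme.Modules.pullback (cE.π.app b₀)).obj M ≅
      ((Scheme.Modules.pullback (c.π.app b)).obj L).restrict Winf.ι :=
    (Scheme.Modules.pullbackComp _ _).app L ≪≫ (Scheme.Modules.pullbackCongr (hw b₀)).app L ≪≫
      ((Scheme.Modules.pullbackComp _ _).app L).symm ≪≫
      ((Scheme.Modules.restrictFunctorIsoPullback Winf.ι).app _).symm
  obtain ⟨s, hs⟩ := exists_hom_of_sect Winf a einf
  obtain ⟨k, g, t, ht⟩ := AmpleDesc5.exists_section_stage E (c := cE) (isLimitOpensCone D c hc b W)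
    (PicClLib.isInvertible_pullback _ hL) s
  let ek : (Scheme.Modules.pullback (E.map g)).obj M ≅
      ((Scheme.Modules.pullback (D.map k.hom)).obj L).restrict (D.map k.hom ⁻¹ᵁ W).ι :=
    (Scheme.Modules.pullbackComp _ _).app L ≪≫ (Scheme.Modules.pullbackCongr (hwE g)).app L ≪≫
      ((Scheme.Modules.pullbackComp _ _).app L).symm ≪≫
      ((Scheme.Modules.restrictFunctorIsoPullback (D.map k.hom ⁻¹ᵁ W).ι).app _).symm
  obtain ⟨a', ha'⟩ := exists_sect_of_hom (D.map k.hom ⁻¹ᵁ W) ek t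
  refine ⟨k.left, k.hom, a', Opens.ext (Set.ext fun z => ?_)⟩
  have hval : ∀ w : Winf, (D.map k.hom ⁻¹ᵁ W).ι (cE.π.app k w) = c.π.app k.left (Winf.ι w) := fun w =>
    congrArg (fun φ => φ.base w) (Scheme.Hom.resLE_comp_ι (c.π.app k.left)
      (show Winf ≤ c.π.app k.left ⁻¹ᵁ (D.map k.hom ⁻¹ᵁ W) by rw [← Scheme.Hom.comp_preimage, c.w]))
  rw [ha', ← hs, ← ht]
  constructor
  · rintro ⟨w, hw', hwz⟩
    have hz : z ∈ Winf := by
      show c.π.app b z ∈ W
      rw [← c.w k.hom, Scheme.Hom.comp_apply]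
      exact hwz ▸ w.2
    refine ⟨⟨z, hz⟩, ?_, rfl⟩
    show cE.π.app k ⟨z, hz⟩ ∈ CohB1.genLocus _ t
    have he : cE.π.app k ⟨z, hz⟩ = w :=
      (D.map k.hom ⁻¹ᵁ W).ι.isOpenEmbedding.injective ((hval ⟨z, hz⟩).trans hwz.symm)
    rw [he]
    exact hw'
  · rintro ⟨w, hw', rfl⟩
    exact ⟨cE.π.app k w, hw', hval w⟩

include hc in
/-- Generation by local sections on the limit holds at a stage. -/
theorem exists_gen_stage {i : J} {X₁ : Scheme.{u}} (f : X₁ ⟶ D.obj i) [QuasiCompact f] [QuasiSeparated f]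
    {M : X₁.Modules} (hM : PicF.IsInvertible M) {P : Scheme.{u}} {q : P ⟶ X₁} {p : P ⟶ c.pt}
    (hP : IsPullback q p f (c.π.app i)) (h : Gen p ((Scheme.Modules.pullback q).obj M)) :
    ∃ (j : J) (φ : j ⟶ i), Gen (pullback.snd f (D.map φ))
      ((Scheme.Modules.pullback (pullback.fst f (D.map φ))).obj M) := by
  classical
  haveI : CompactSpace X₁ := QuasiCompact.compactSpace_of_compactSpace f
  haveI : QuasiSeparatedSpace X₁ := quasiSeparatedSpace_of_quasiSeparated f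
  let F := MorLib.BC.diag D f
  let cF := MorLib.BC.cone D f hP
  let hF := MorLib.BC.isLimitCone D f hP hc
  haveI : ∀ {a b : Over i} (r : a ⟶ b), IsAffineHom (F.map r) := fun r => MorLib.BC.isAffineHom_map D f r
  haveI : ∀ a, CompactSpace (F.obj a) := fun a => MorLib.BC.compactSpace_obj D f a
  haveI : ∀ a, QuasiSeparatedSpace (F.obj a) := fun a => MorLib.BC.quasiSeparatedSpace_obj D f a
  haveI : CompactSpace P := Scheme.compactSpace_of_isLimit F cF hF
  let Lk := fun k : Over i => (Scheme.Modules.pullback (pullback.fst f (D.map k.hom))).obj M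
  let eF : ∀ {j k : Over i} (r : j ⟶ k), (Scheme.Modules.pullback (F.map r)).obj (Lk k) ≅ Lk j :=
    fun {j k} r => (Scheme.Modules.pullbackComp _ _).app M ≪≫
      (Scheme.Modules.pullbackCongr (MorLib.BC.map_fst D f r)).app M
  have key : ∀ x : P, ∃ (k : Over i) (V : (D.obj k.left).Opens)
      (t : Γ(Lk k, pullback.snd f (D.map k.hom) ⁻¹ᵁ V)), MorLib.BC.proj D f hP k x ∈ locus t := by
    intro x
    obtain ⟨V, hxV, a, ha⟩ := h x
    obtain ⟨V₁, hV₁, hxV₁, hle⟩ := exists_isAffineOpen_mem_and_subset (x := p x) (U := V) hxV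
    let a₁ := AModX.res _ (p.preimage_mono hle) a
    have ha₁ : x ∈ locus a₁ := by rw [locus_res]; exact ⟨ha, hxV₁⟩
    obtain ⟨l, Vl, hVl, hVle⟩ := exists_preimage_eq D c hc V₁ hV₁.isCompact
    obtain ⟨m, α, β, -⟩ := IsCofilteredOrEmpty.cone_objs i l
    let b : Over i := Over.mk α
    let Vb : (D.obj b.left).Opens := D.map β ⁻¹ᵁ Vl
    have hVb : c.π.app m ⁻¹ᵁ Vb = V₁ := by
      rw [← hVle, ← c.w β, Scheme.Hom.comp_preimage]
    let sb : F.obj b ⟶ D.obj b.left := pullback.snd f (D.map b.hom)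
    haveI : QuasiCompact sb := MorphismProperty.pullback_snd _ _ inferInstance
    let W : (F.obj b).Opens := sb ⁻¹ᵁ Vb
    have hW : IsCompact (W : Set (F.obj b)) := sb.isCompact_preimage ((D.map β).isCompact_preimage hVl)
    have hpW : cF.π.app b ⁻¹ᵁ W = p ⁻¹ᵁ V₁ := by
      show MorLib.BC.proj D f hP b ⁻¹ᵁ (sb ⁻¹ᵁ Vb) = _
      rw [← Scheme.Hom.comp_preimage, MorLib.BC.proj_snd, Scheme.Hom.comp_preimage]
      exact congrArg _ hVb
    let e : (Scheme.Modules.pullback (cF.π.app b)).obj (Lk b) ≅ (Scheme.Modules.pullback q).obj M :=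
      (Scheme.Modules.pullbackComp _ _).app M ≪≫
        (Scheme.Modules.pullbackCongr (MorLib.BC.proj_fst D f hP b)).app M
    let a₂ : Γ((Scheme.Modules.pullback (cF.π.app b)).obj (Lk b), cF.π.app b ⁻¹ᵁ W) :=
      AModX.res _ hpW.le (e.symm.hom.app _ a₁)
    have ha₂ : x ∈ locus a₂ := by
      rw [locus_res, locus_iso, hpW]
      exact ⟨ha₁, hxV₁⟩
    obtain ⟨k, g, t, ht⟩ := exists_sect_stage F hF W hW (PicClLib.isInvertible_pullback _ hM) a₂
    have he : pullback.snd f (D.map k.hom) ⁻¹ᵁ (D.map g.left ⁻¹ᵁ Vb) = F.map g ⁻¹ᵁ W := by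
      exact (congrArg (fun φ : F.obj k ⟶ D.obj b.left => φ ⁻¹ᵁ Vb) (MorLib.BC.map_snd D f g).symm :)
    refine ⟨k, D.map g.left ⁻¹ᵁ Vb, AModX.res _ he.le ((eF g).hom.app _ t), ?_⟩
    rw [locus_res, locus_iso, he]
    have hx' : x ∈ cF.π.app k ⁻¹ᵁ locus t := by rw [ht]; exact ha₂
    exact ⟨hx', locus_le t hx'⟩
  choose k V t ht using key
  obtain ⟨T, hT⟩ := isCompact_univ.elim_finite_subcover
    (fun x : P => ((MorLib.BC.proj D f hP (k x) ⁻¹ᵁ locus (t x) : P.Opens) : Set P))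
    (fun x => (MorLib.BC.proj D f hP (k x) ⁻¹ᵁ locus (t x)).2) (fun x _ => Set.mem_iUnion.2 ⟨x, ht x⟩)
  obtain ⟨m, hm⟩ := IsCofiltered.inf_objs_exists (T.image k)
  let r : ∀ x : T, m ⟶ k x.1 := fun x => (hm (Finset.mem_image_of_mem k x.2)).some
  obtain ⟨n, ψ, hψ⟩ := exists_map_eq_top F cF hF (⨆ x : T, F.map (r x) ⁻¹ᵁ locus (t x.1)) (by
    rw [eq_top_iff]
    intro z _
    obtain ⟨x, hxT, hx⟩ := Set.mem_iUnion₂.1 (hT (Set.mem_univ z))
    rw [Scheme.Hom.preimage_iSup, Opens.mem_iSup]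
    refine ⟨⟨x, hxT⟩, ?_⟩
    show z ∈ cF.π.app m ⁻¹ᵁ (F.map (r ⟨x, hxT⟩) ⁻¹ᵁ locus (t x))
    rw [← Scheme.Hom.comp_preimage, cF.w]
    exact hx)
  refine ⟨n.left, n.hom, fun z => ?_⟩
  have hz : z ∈ F.map ψ ⁻¹ᵁ ⨆ x : T, F.map (r x) ⁻¹ᵁ locus (t x.1) := by rw [hψ]; trivial
  rw [Scheme.Hom.preimage_iSup, Opens.mem_iSup] at hz
  obtain ⟨x, hx⟩ := hz
  have hx' : z ∈ F.map (ψ ≫ r x) ⁻¹ᵁ locus (t x.1) := by
    rw [F.map_comp, Scheme.Hom.comp_preimage]; exact hx
  obtain ⟨V', hV', b, hb⟩ := gen_point (MorLib.BC.map_snd D f (ψ ≫ r x))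
    (PicClLib.isInvertible_pullback _ hM) (t x.1) hx'
  exact ⟨V', hV', (eF (ψ ≫ r x)).hom.app _ b, by rw [locus_iso]; exact hb⟩

end Groth.Agent.CounitStage22
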